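import Cfsg.Agent.Lib.Helper16.B2F4.PartA
import Cfsg.Agent.Lib.Helper16.StCCB.AsmGen
import Cfsg.Agent.Lib.Helper16.StCCPartB
import Cfsg.Agent.Lib.Helper14.StCC.SectionCore
import Cfsg.Agent.Lib.Helper20.StCCBB0
import Cfsg.Agent.S2395

/-!
# S2400, case `B₂` over a field with four elements

Every central extension of the group of type `B₂` presented by (R1), (R2) over a field of
characteristic `2` with at least four elements splits (`exists_section_B2_char2`); in particular
over the field with four elements (`exists_section_B2_four`).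

Part A: long roots by helper26's commutator trick, short roots by its mirror (`PartA.lean`), lifts
by the torus (weights `1` on the short roots, `2` on the long roots; `v² ≠ 1` for `v ≠ 0, 1`).
Part B: every admissible pair `(r, s)` has a coweight `m` with `⟨r, m⟩ = 0`, `⟨s, m⟩ ∈ {±1, ±2}`, so
the general assembly `B.comm_main_gen` applies with the torus tool for every pair.
-/

set_option autoImplicit false

namespace Cfsg.Agent.Lib.Helper16.B2F4

open Cfsg.Lie Cfsg.Agent.Lib.Helper8.Chev Cfsg.Agent.Lib.Helper14.StCC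
open Cfsg.Agent.Lib.Helper26.StCC
open Cfsg.Agent.Lib.Helper14.StCC.A.Helper27 (b2Long exists_wt_one exists_wt_two_B2)

variable {K : Type*} [Field K] {E : Type*} [Group E]

theorem hD_B2 : chevB2 ∈ [chevG2, chevB2, chevD4, chevF4, chevE6, chevE7, chevE8] := by simp

/-! ## tables -/

set_option maxRecDepth 100000 in
/-- the long roots of `B₂`: helper26's commutator data (witnesses of helper27's [A3]) -/
theorem commData_long {r : ℕ} (hr : r ∈ b2Long) : CommData chevB2 r := by
  simp only [b2Long, List.mem_cons, List.mem_nil_iff, or_false] at hr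
  unfold CommData
  rcases hr with rfl | rfl | rfl | rfl
  · exact ⟨1, 4, 2, 1, 1, by decide, by decide, by decide, by decide, by decide,
      by decide +kernel, Or.inl rfl, ⟨by decide, by decide, by decide +kernel⟩,
      ⟨by decide, by decide, by decide +kernel⟩, ⟨by decide, by decide, by decide +kernel⟩⟩
  · exact ⟨1, 7, 5, -1, 1, by decide, by decide, by decide, by decide, by decide,
      by decide +kernel, Or.inl rfl, ⟨by decide, by decide, by decide +kernel⟩,
      ⟨by decide, by decide, by decide +kernel⟩, ⟨by decide, by decide, by decide +kernel⟩⟩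
  · exact ⟨2, 7, 6, 1, -1, by decide, by decide, by decide, by decide, by decide,
      by decide +kernel, Or.inr rfl, ⟨by decide, by decide, by decide +kernel⟩,
      ⟨by decide, by decide, by decide +kernel⟩, ⟨by decide, by decide, by decide +kernel⟩⟩
  · exact ⟨5, 4, 6, -1, -1, by decide, by decide, by decide, by decide, by decide,
      by decide +kernel, Or.inr rfl, ⟨by decide, by decide, by decide +kernel⟩,
      ⟨by decide, by decide, by decide +kernel⟩, ⟨by decide, by decide, by decide +kernel⟩⟩

set_option maxRecDepth 100000 in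
/-- the short roots of `B₂` in characteristic `2`: the mirror data -/
theorem commDataF_short (h2 : (2 : K) = 0) {r : ℕ} (hr : r < chevB2.nroots) (hl : r ∉ b2Long) :
    CommDataF chevB2 K r := by
  have hN2 : ((2 : ℤ) : K) = 0 := by exact_mod_cast h2
  have hN2' : ((-2 : ℤ) : K) = 0 := by
    rw [Int.cast_neg, hN2, neg_zero]
  have hr8 : r < 8 := hr
  simp only [b2Long, List.mem_cons, List.mem_nil_iff, or_false, not_or] at hl
  obtain ⟨l0, l3, l4, l7⟩ := hl
  have hcases : r = 1 ∨ r = 2 ∨ r = 5 ∨ r = 6 := by omega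
  unfold CommDataF
  rcases hcases with rfl | rfl | rfl | rfl
  · exact ⟨0, 5, 3, 1, -1, -2, by decide, by decide, by decide, by decide, by decide,
      by decide +kernel, Or.inl rfl, ⟨by decide, by decide, by decide +kernel⟩,
      ⟨by decide, by decide, by decide +kernel, hN2'⟩, ⟨by decide, by decide, by decide +kernel⟩⟩
  · exact ⟨0, 6, 4, -1, 1, -2, by decide, by decide, by decide, by decide, by decide,
      by decide +kernel, Or.inr rfl, ⟨by decide, by decide, by decide +kernel⟩,
      ⟨by decide, by decide, by decide +kernel, hN2'⟩, ⟨by decide, by decide, by decide +kernel⟩⟩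
  · exact ⟨3, 6, 7, 1, 1, 2, by decide, by decide, by decide, by decide, by decide,
      by decide +kernel, Or.inl rfl, ⟨by decide, by decide, by decide +kernel⟩,
      ⟨by decide, by decide, by decide +kernel, hN2⟩, ⟨by decide, by decide, by decide +kernel⟩⟩
  · exact ⟨4, 5, 7, 1, -1, -2, by decide, by decide, by decide, by decide, by decide,
      by decide +kernel, Or.inl rfl, ⟨by decide, by decide, by decide +kernel⟩,
      ⟨by decide, by decide, by decide +kernel, hN2'⟩, ⟨by decide, by decide, by decide +kernel⟩⟩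

/-- the coweight with coordinates `(a, b)` -/
def mk2 (a b : ℤ) : ℕ → ℤ := fun i => if i = 0 then a else if i = 1 then b else 0

set_option maxRecDepth 1000000 in
theorem tool_check : ∀ r < 8, ∀ s < 8, s = r ∨ s = chevB2.neg r ∨
    ∃ a ∈ ([-2, -1, 0, 1, 2] : List ℤ), ∃ b ∈ ([-2, -1, 0, 1, 2] : List ℤ),
      wt chevB2 (mk2 a b) r = 0 ∧ (wt chevB2 (mk2 a b) s = 1 ∨ wt chevB2 (mk2 a b) s = -1 ∨
        wt chevB2 (mk2 a b) s = 2 ∨ wt chevB2 (mk2 a b) s = -2) := by
  decide +kernel

/-- every admissible ordered pair of roots of `B₂` has a coweight orthogonal to the first root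
with value `±1` or `±2` on the second -/
theorem tool_B2 {r s : ℕ} (hr : r < chevB2.nroots) (hs : s < chevB2.nroots) (h1 : s ≠ r)
    (h2 : s ≠ chevB2.neg r) :
    ∃ m : ℕ → ℤ, wt chevB2 m r = 0 ∧ (wt chevB2 m s = 1 ∨ wt chevB2 m s = -1 ∨
      wt chevB2 m s = 2 ∨ wt chevB2 m s = -2) := by
  rcases tool_check r hr s hs with h | h | ⟨a, _, b, _, h⟩
  · exact absurd h h1
  · exact absurd h h2
  · exact ⟨mk2 a b, h⟩

/-! ## the section -/

/-- every central extension of the group of type `B₂` presented by (R1), (R2) over a field of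
characteristic `2` with more than two elements splits -/
theorem exists_section_B2_char2 (h2 : (2 : K) = 0) (hK3 : ∃ c : K, c ≠ 0 ∧ c ≠ 1)
    (ψ : E →* chevB2.SteinbergCover K)
    (hψ : Function.Surjective ψ) (hc : ψ.ker ≤ Subgroup.center E) :
    ∃ τ : chevB2.SteinbergCover K →* E, ψ.comp τ = MonoidHom.id _ := by
  have hperf : commutator (chevB2.SteinbergCover K) = ⊤ :=
    Cfsg.Agent.S2395.result chevB2 hD_B2 (fun _ => hK3)
  obtain ⟨v, hv0, hv1⟩ := hK3
  -- `v² ≠ 1` in characteristic `2`
  have hv2 : v ^ 2 ≠ 1 := by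
    intro h
    apply hv1
    have h3 : (v - 1) ^ 2 = 0 := by
      have e : (v - 1) ^ 2 = v ^ 2 - 2 * v + 1 := by ring
      rw [e, h, h2, zero_mul, sub_zero]
      have e2 : (1 : K) + 1 = 2 := by norm_num
      rw [e2, h2]
    exact sub_eq_zero.mp ((pow_eq_zero_iff (two_ne_zero)).mp h3)
  have hvi : v⁻¹ ≠ 1 := by
    intro h; apply hv1; rw [← inv_inv v, h, inv_one]
  have hvi2 : (v ^ 2)⁻¹ ≠ 1 := by
    intro h; apply hv2; rw [← inv_inv (v ^ 2), h, inv_one]
  set S := scRepOf hD_B2 (scHom hD_B2 K) (fun r t hr => scHom_scGen hD_B2 r t hr) with hS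
  have hLC : ∀ r < chevB2.nroots, ∀ (A B : E) (t u : K), ψ A = S.x r t → ψ B = S.x r u →
      A * B = B * A := by
    intro r hr
    by_cases hl : r ∈ b2Long
    · exact lifts_commute_of_commData S ⟨v, hv0, hv1⟩ ψ hψ hc hr (commData_long hl)
    · exact lifts_commute_of_firstTerm S ⟨v, hv0, hv1⟩ ψ hψ hc hr (commDataF_short h2 hr hl)
  have htor : ∀ r < chevB2.nroots, ∃ (m : ℕ → ℤ) (w : K), w ≠ 0 ∧ w ^ wt chevB2 m r ≠ 1 := by
    intro r hr
    by_cases hl : r ∈ b2Long
    · obtain ⟨m, hm⟩ := exists_wt_two_B2 hl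
      refine ⟨m, v, hv0, ?_⟩
      rw [hm]
      exact_mod_cast hv2
    · obtain ⟨m, hm⟩ := exists_wt_one hD_B2 hr (fun _ => hl)
      refine ⟨m, v, hv0, ?_⟩
      rw [hm, zpow_one]
      exact hv1
  obtain ⟨L⟩ := exists_rootLift_of_tor S hperf ψ hψ hc hLC htor
  refine exists_section_of hD_B2 ψ L (B.comm_main_gen S ψ hψ hc L
    (fun _ _ hr hs h1 h2 => B.Helper16.shapeP_all S.hD hr hs h1 h2) ?_
    (fun m _ _ hr hs h1 h2 _ hc' => B.wt_commTerms S.hD m hr hs h1 h2 hc'))
  intro r s hr hs h1 h2'
  left
  obtain ⟨m, hm0, hm⟩ := tool_B2 hr hs h1 h2'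
  refine ⟨m, v, hm0, hv0, ?_⟩
  rcases hm with h | h | h | h <;> rw [h]
  · rw [zpow_one]; exact hv1
  · rw [zpow_neg, zpow_one]; exact hvi
  · exact_mod_cast hv2
  · rw [zpow_neg]; exact_mod_cast hvi2

/-- a field with four elements has characteristic `2` -/
theorem two_eq_zero_of_card_four {K : Type*} [Field K] [Fintype K] (hK : Fintype.card K = 4) :
    (2 : K) = 0 := by
  obtain ⟨n, hp, hn⟩ := FiniteField.card K (ringChar K)
  rw [hK] at hn
  have hdvd : ringChar K ∣ 4 := by
    rw [hn]
    exact dvd_pow_self _ n.ne_zero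
  have h2 : ringChar K = 2 := by
    have h4 : (4 : ℕ) = 2 ^ 2 := by norm_num
    rw [h4] at hdvd
    exact (Nat.prime_dvd_prime_iff_eq hp Nat.prime_two).mp (hp.dvd_of_dvd_pow hdvd)
  have := CharP.cast_eq_zero K (ringChar K)
  rw [h2] at this
  exact_mod_cast this

/-- a field with four elements has an element different from `0` and `1` -/
theorem exists_ne_of_card_four {K : Type*} [Field K] [Fintype K] (hK : Fintype.card K = 4) :
    ∃ c : K, c ≠ 0 ∧ c ≠ 1 := by
  classical
  by_contra hcon0
  have hcon : ∀ c : K, c ≠ 0 → c = 1 := fun c h0 => by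
    by_contra h1
    exact hcon0 ⟨c, h0, h1⟩
  have hsub : (Finset.univ : Finset K) ⊆ {0, 1} := by
    intro x _
    by_cases hx : x = 0
    · simp [hx]
    · simp [hcon x hx]
  have := Finset.card_le_card hsub
  rw [Finset.card_univ, hK] at this
  have h2 : ({0, 1} : Finset K).card ≤ 2 := Finset.card_le_two
  omega

/-- S2400, the case `B₂` over the field with four elements: every central extension of the group
presented by (R1), (R2) splits -/
theorem exists_section_B2_four {K : Type*} [Field K] [Fintype K] (hK : Fintype.card K = 4)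
    {E : Type*} [Group E] (ψ : E →* chevB2.SteinbergCover K)
    (hψ : Function.Surjective ψ) (hc : ψ.ker ≤ Subgroup.center E) :
    ∃ τ : chevB2.SteinbergCover K →* E, ψ.comp τ = MonoidHom.id _ :=
  exists_section_B2_char2 (two_eq_zero_of_card_four hK) (exists_ne_of_card_four hK) ψ hψ hc

end Cfsg.Agent.Lib.Helper16.B2F4
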