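import Cfsg.Agent.Lib.Helper25.F4CCFA
import Cfsg.Agent.Lib.Helper26.StCCA6
import Cfsg.Agent.Lib.Helper27.StCCA3

/-!
# S2400, case `B₂` over a field of characteristic `2` with at least four elements: Part A

* `exists_rootLift_of_tor`: helper25's construction of the equivariant additive lifts, with the
  torus hypothesis in the general form "some torus element moves `x_r`" (long roots of `B₂` only
  have even weights);
* `lifts_commute_of_firstTerm`: lifts of `x_r(t)`, `x_r(u)` commute when `r` is the FIRST term of a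
  two-term commutator formula of `(a, b)` and `x_r` commutes with `x_a`, `x_b` and the second term
  (mirror of helper26's `lifts_commute_of_commData`).
-/

set_option autoImplicit false

namespace Cfsg.Agent.Lib.Helper16.B2F4

open Cfsg.Lie Cfsg.Agent.Lib.Helper8.Chev Cfsg.Agent.Lib.Helper14.StCC
open Cfsg.Agent.Lib.Helper11.StCCPairing
open Cfsg.Agent.Lib.Helper26.StCC
open scoped commutatorElement

variable {D : ChevalleyDatum} {K : Type*} [Field K] {Γ : Type*} [Group Γ] {E : Type*} [Group E]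

/-- a torus element acting on `x_r` through a scalar `≠ 1` -/
theorem exists_torus_ne_one (S : StRep D K Γ)
    (htor : ∀ r < D.nroots, ∃ (m : ℕ → ℤ) (v : K), v ≠ 0 ∧ v ^ wt D m r ≠ 1) :
    ∀ r : ℕ, ∃ (h : Γ) (b : K), r < D.nroots →
      (h ∈ S.H0 ∧ b ≠ 1 ∧ ∀ u : K, h * S.x r u * h⁻¹ = S.x r (b * u)) := by
  intro r
  by_cases hr : r < D.nroots
  · obtain ⟨m, v, hv0, hv1⟩ := htor r hr
    obtain ⟨g, hg, hgc⟩ := exists_torus S m hv0
    exact ⟨g, v ^ wt D m r, fun _ => ⟨hg, hv1, fun u => hgc r hr u⟩⟩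
  · exact ⟨1, 0, fun h => absurd h hr⟩

/-- Part A from its two inputs, torus hypothesis in the general form -/
theorem exists_rootLift_of_tor (S : StRep D K Γ)
    (hperf : commutator Γ = ⊤) (ψ : E →* Γ) (hψ : Function.Surjective ψ)
    (hc : ψ.ker ≤ Subgroup.center E)
    (hLC : ∀ r < D.nroots, ∀ (A B : E) (t u : K), ψ A = S.x r t → ψ B = S.x r u → A * B = B * A)
    (htor : ∀ r < D.nroots, ∃ (m : ℕ → ℤ) (v : K), v ≠ 0 ∧ v ^ wt D m r ≠ 1) :
    Nonempty (RootLift S ψ) := by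
  choose hh bb hhb using exists_torus_ne_one S htor
  have hb1 : ∀ r < D.nroots, bb r - 1 ≠ 0 := fun r hr => sub_ne_zero.mpr (hhb r hr).2.1
  -- the image of the lift
  have hmap : ∀ r < D.nroots, ∀ t : K,
      ψ (pr ψ hψ (hh r) (S.x r (t / (bb r - 1)))) = S.x r t := by
    intro r hr t
    rw [map_pr, commutatorElement_def, (hhb r hr).2.2, S.x_inv hr, S.add r hr]
    congr 1
    field_simp [hb1 r hr]
    ring
  refine ⟨⟨fun r t => pr ψ hψ (hh r) (S.x r (t / (bb r - 1))), hmap, ?_, ?_⟩⟩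
  · -- additivity
    intro r hr t u
    have e1 : S.x r ((t + u) / (bb r - 1)) =
        S.x r (t / (bb r - 1)) * S.x r (u / (bb r - 1)) := by
      rw [S.add r hr, add_div]
    obtain ⟨B, hB⟩ := hψ (S.x r (t / (bb r - 1)))
    rw [e1, pr_mul_right' ψ hψ hc (hh r) _ _ hB]
    congr 1
    have h1 := hLC r hr B (pr ψ hψ (hh r) (S.x r (u / (bb r - 1)))) _ _ hB (hmap r hr u)
    rw [h1, mul_inv_cancel_right]
  · -- equivariance
    intro g f hg hf s hs u
    rw [conj_pr ψ hψ hc, hf s hs]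
    have hz := Cfsg.Agent.Lib.Helper14.StCC.A.Helper25.conj_H0_eq_mul_central S hg (hhb s hs).1
    have e2 : ψ g * hh s * (ψ g)⁻¹ = hh s * ((hh s)⁻¹ * (ψ g * hh s * (ψ g)⁻¹)) := by group
    rw [e2, pr_mul_center_left ψ hψ hc hperf hz, mul_div_assoc]

/-- data for the mirror "commutator trick" at the root `r` over the field `K`: roots `a, b` with
`[x_a, x_b] = x_r(∗) x_q(∗)` (terms `(1,1)` and `(1,2)`), where `a` and `q` commute with `r` and the
commutator formula of `(r, b)` has the single term `(q, N, 1, 1)` with `N = 0` in `K` -/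
def CommDataF (D : ChevalleyDatum) (K : Type*) [Field K] (r : ℕ) : Prop :=
  ∃ (a b q : ℕ) (ε ε' N : ℤ), a < D.nroots ∧ b < D.nroots ∧ q < D.nroots ∧ b ≠ a ∧ b ≠ D.neg a ∧
    D.commTerms a b = [(r, ε, 1, 1), (q, ε', 1, 2)] ∧ (ε = 1 ∨ ε = -1) ∧
    (a ≠ r ∧ a ≠ D.neg r ∧ D.commTerms r a = []) ∧
    (b ≠ r ∧ b ≠ D.neg r ∧ D.commTerms r b = [(q, N, 1, 1)] ∧ (N : K) = 0) ∧
    (q ≠ r ∧ q ≠ D.neg r ∧ D.commTerms r q = [])

/-- lifts of `x_r(t)`, `x_r(u)` commute: mirror of the commutator trick -/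
theorem lifts_commute_of_firstTerm (S : StRep D K Γ) (hK3 : ∃ c : K, c ≠ 0 ∧ c ≠ 1)
    (ψ : E →* Γ) (hψ : Function.Surjective ψ) (hc : ψ.ker ≤ Subgroup.center E)
    {r : ℕ} (hr : r < D.nroots) (hd : CommDataF D K r) :
    ∀ (A B : E) (t u : K), ψ A = S.x r t → ψ B = S.x r u → A * B = B * A := by
  obtain ⟨a, b, q, ε, ε', N, ha, hb, hq, hba, hbna, hT, hε, ⟨har, hanr, hTa⟩,
    ⟨hbr, hbnr, hTb, hN⟩, ⟨hqr, hqnr, hTq⟩⟩ := hd
  obtain ⟨c, hc0, hc1⟩ := hK3
  -- commutation in `Γ`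
  have comm0 : ∀ s, s < D.nroots → s ≠ r → s ≠ D.neg r → D.commTerms r s = [] →
      ∀ t u : K, S.x s u * S.x r t = S.x r t * S.x s u := by
    intro s hs h1 h2 h3 t u
    have := S.comm r hr s hs h1 h2 t u
    rw [ChevalleyDatum.commWord, h3] at this
    simpa using this
  have hxa := comm0 a ha har hanr hTa
  have hxq := comm0 q hq hqr hqnr hTq
  have hxb : ∀ t u : K, S.x b u * S.x r t = S.x r t * S.x b u := by
    intro t u
    have := S.comm r hr b hb hbr hbnr t u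
    rw [ChevalleyDatum.commWord, hTb] at this
    simp only [List.map_cons, List.map_nil, wS_cons, wS_nil, mul_one, pow_one] at this
    rw [hN, zero_mul, zero_mul, S.x_zero hq, mul_one] at this
    exact this
  have hxr : ∀ t u : K, S.x r u * S.x r t = S.x r t * S.x r u := by
    intro t u
    rw [S.add r hr, S.add r hr, add_comm]
  -- the commutator formula
  have hform : ∀ s t : K, S.x r (-(ε : K) * s * t) * S.x q (-(ε' : K) * s * t ^ 2) =
      ⁅(S.x b t)⁻¹, (S.x a s)⁻¹⁆ := by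
    intro s t
    have h1 := S.comm a ha b hb hba hbna s t
    rw [ChevalleyDatum.commWord, hT] at h1
    simp only [List.map_cons, List.map_nil, wS_cons, wS_nil, mul_one, pow_one] at h1
    have e1 : (ε : K) * (-s) * t = -(ε : K) * s * t := by ring
    have e2 : (ε' : K) * (-s) * t ^ 2 = -(ε' : K) * s * t ^ 2 := by ring
    rw [e1, e2] at h1
    rw [commutatorElement_def, inv_inv, inv_inv, mul_assoc ((S.x b t)⁻¹ * (S.x a s)⁻¹), h1]
    group
  intro A B t u hA hB
  let Xq : K → E := fun w => Function.surjInv hψ (S.x q w)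
  let Xr : K → E := fun w => Function.surjInv hψ (S.x r w)
  have hXq : ∀ w, ψ (Xq w) = S.x q w := fun w => Function.surjInv_eq hψ _
  have hXr : ∀ w, ψ (Xr w) = S.x r w := fun w => Function.surjInv_eq hψ _
  have hAr : ∀ w, ψ A * ψ (Xr w) = ψ (Xr w) * ψ A := by
    intro w
    rw [hA, hXr]
    exact hxr w t
  have hAq : ∀ w, ψ A * ψ (Xq w) = ψ (Xq w) * ψ A := by
    intro w
    rw [hA, hXq]
    exact (hxq t w).symm
  have kr_add : ∀ w w', ⁅A, Xr (w + w')⁆ = ⁅A, Xr w⁆ * ⁅A, Xr w'⁆ := by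
    intro w w'
    rw [← comm_mul_right ψ hc (hAr w')]
    apply comm_eq_of_map_eq ψ hc rfl
    rw [map_mul, hXr, hXr, hXr, S.add r hr]
  -- the key relation
  have key : ∀ s w : K, ⁅A, Xr (-(ε : K) * s * w)⁆ * ⁅A, Xq (-(ε' : K) * s * w ^ 2)⁆ = 1 := by
    intro s w
    have hP : ψ (Function.surjInv hψ (S.x b w)⁻¹) = (S.x b w)⁻¹ := Function.surjInv_eq hψ _
    have hQ : ψ (Function.surjInv hψ (S.x a s)⁻¹) = (S.x a s)⁻¹ := Function.surjInv_eq hψ _
    rw [← comm_mul_right ψ hc (hAq _)]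
    have h1 : ⁅A, Xr (-(ε : K) * s * w) * Xq (-(ε' : K) * s * w ^ 2)⁆ =
        ⁅A, ⁅Function.surjInv hψ (S.x b w)⁻¹, Function.surjInv hψ (S.x a s)⁻¹⁆⁆ := by
      apply comm_eq_of_map_eq ψ hc rfl
      rw [map_mul, hXq, hXr, map_commutatorElement, hP, hQ, hform]
    rw [h1, commutatorElement_eq_one_iff_mul_comm]
    apply commute_comm_of_commute ψ hc
    · rw [hA, hP, S.x_inv hb]
      exact (hxb t (-w)).symm
    · rw [hA, hQ, S.x_inv ha]
      exact (hxa t (-s)).symm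
  have hε0 : (ε : K) ≠ 0 := by
    rcases hε with rfl | rfl
    · simp
    · simp
  have hc1' : c - 1 ≠ 0 := sub_ne_zero.mpr hc1
  -- `kr (-ε c w) = kr (-ε w)`
  have h2 : ∀ w : K, ⁅A, Xr (-(ε : K) * c * w)⁆ = ⁅A, Xr (-(ε : K) * w)⁆ := by
    intro w
    have k1 := key 1 w
    have k2 := key (c ^ 2) (w / c)
    have e1 : -(ε : K) * c ^ 2 * (w / c) = -(ε : K) * c * w := by
      field_simp
    have e2 : -(ε' : K) * c ^ 2 * (w / c) ^ 2 = -(ε' : K) * 1 * w ^ 2 := by
      field_simp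
    have e3 : -(ε : K) * 1 * w = -(ε : K) * w := by ring
    rw [e1, e2] at k2
    rw [e3] at k1
    exact mul_right_cancel (k2.trans k1.symm)
  have h3 : ∀ w : K, ⁅A, Xr (-(ε : K) * (c - 1) * w)⁆ = 1 := by
    intro w
    have := kr_add (-(ε : K) * w) (-(ε : K) * (c - 1) * w)
    have e : -(ε : K) * w + -(ε : K) * (c - 1) * w = -(ε : K) * c * w := by ring
    rw [e, h2] at this
    exact (mul_eq_left.mp this.symm)
  have h4 : ⁅A, B⁆ = 1 := by
    rw [comm_eq_of_map_eq ψ hc (rfl : ψ A = ψ A) (hB.trans (hXr u).symm)]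
    have := h3 (u / (-(ε : K) * (c - 1)))
    rw [mul_div_cancel₀ _ (mul_ne_zero (neg_ne_zero.mpr hε0) hc1')] at this
    exact this
  exact commutatorElement_eq_one_iff_mul_comm.mp h4

end Cfsg.Agent.Lib.Helper16.B2F4
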